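import Groth.Prelude.Def_FEt
import Groth.Agent.HenselLib.LocalHens
import Groth.Agent.HenselLib.HullProps
import Groth.Agent.HenselLib.StrictSections
import Groth.Agent.CAlgH3.FEtClopenFF

/-!
# Full faithfulness of restriction of finite etale covers when punctured strict henselizations are connected
-/

set_option autoImplicit false
set_option linter.style.haveILetI false
set_option linter.unusedSectionVars false
set_option backward.isDefEq.respectTransparency.types false
set_option maxHeartbeats 800000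

universe u

open CategoryTheory CategoryTheory.Limits AlgebraicGeometry Opposite TopologicalSpace IsLocalRing TensorProduct

namespace Groth.Agent.PunctConnH2

/-- A finite etale scheme has a flat strictly local germ at each point, inside the strict henselization of the base. -/
theorem exists_strict_germ {X Y : Scheme.{u}} (g : Y ⟶ X) [IsFinite g] [Etale g] (y : Y) :
    ∃ s : Spec (CommRingCat.of (HenselLib.LocalSH (X.presheaf.stalk (g y)))) ⟶ Y, Flat s ∧
      s (closedPoint _) = y ∧ ∀ z, s z = y → z = closedPoint _ := by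
  let A := X.presheaf.stalk (g y)
  let R := HenselLib.LocalSH A
  obtain ⟨V, hV, hxV, -⟩ := exists_isAffineOpen_mem_and_subset (X := X) (x := g y) (U := ⊤) trivial
  have hW : IsAffineOpen (g ⁻¹ᵁ V) := hV.preimage g
  let A0 := Γ(X, V)
  let B := Γ(Y, g ⁻¹ᵁ V)
  have hgV : (g.app V).hom.Etale := by
    rw [Scheme.Hom.app_eq_appLE]
    exact HasRingHomProperty.appLE @Etale g inferInstance ⟨V, hV⟩ ⟨g ⁻¹ᵁ V, hW⟩ le_rfl
  algebraize [(g.app V).hom]
  haveI : Algebra.Etale A0 B := hgV
  letI : Algebra A0 A := (X.presheaf.germ V (g y) hxV).hom.toAlgebra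
  haveI : IsLocalization.AtPrime A (hV.primeIdealOf ⟨g y, hxV⟩).asIdeal := hV.isLocalization_stalk ⟨g y, hxV⟩
  haveI : Module.Flat A0 A := IsLocalization.flat A (hV.primeIdealOf ⟨g y, hxV⟩).asIdeal.primeCompl
  letI : Algebra A0 R := ((algebraMap A R).comp (algebraMap A0 A)).toAlgebra
  haveI : IsScalarTower A0 A R := IsScalarTower.of_algebraMap_eq fun _ => rfl
  haveI : Module.Flat A0 R := Module.Flat.trans A0 A R
  let c : Spec (CommRingCat.of R) ⟶ X := Spec.map (CommRingCat.ofHom (algebraMap A0 R)) ≫ hV.fromSpec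
  have hc : c = Spec.map (CommRingCat.ofHom (algebraMap A R)) ≫ X.fromSpecStalk (g y) := by
    rw [← hV.fromSpecStalk_eq_fromSpecStalk hxV, IsAffineOpen.fromSpecStalk, ← Spec.map_comp_assoc]
    rfl
  have hcl : c (closedPoint R) = g y := by
    rw [hc, Scheme.Hom.comp_apply]
    refine (congrArg (X.fromSpecStalk (g y)) ?_).trans X.fromSpecStalk_closedPoint
    exact PrimeSpectrum.ext (IsLocalRing.maximalIdeal_comap (algebraMap A R))
  have hP : (Spec.map (g.app V)) (hW.primeIdealOf ⟨y, hxV⟩) =
      (Spec.map (CommRingCat.ofHom (algebraMap A0 R))) (closedPoint R) := by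
    apply hV.fromSpec.isOpenEmbedding.injective
    rw [← Scheme.Hom.comp_apply, ← Scheme.Hom.comp_apply, Scheme.Hom.app_eq_appLE,
      hV.SpecMap_appLE_fromSpec g hW le_rfl, Scheme.Hom.comp_apply, IsAffineOpen.fromSpec_primeIdealOf]
    exact hcl.symm
  obtain ⟨w, hw1, hw2⟩ := Scheme.Pullback.exists_preimage_pullback
    (f := Spec.map (CommRingCat.ofHom (algebraMap A0 R))) (g := Spec.map (CommRingCat.ofHom (algebraMap A0 B)))
    (closedPoint R) (hW.primeIdealOf ⟨y, hxV⟩) hP.symm
  let Q := (pullbackSpecIso A0 R B).hom w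
  have hQ1 : Q.asIdeal.comap (algebraMap R (R ⊗[A0] B)) = maximalIdeal R := by
    have h1 : (Spec.map (CommRingCat.ofHom (algebraMap R (R ⊗[A0] B)))) Q = closedPoint R := by
      rw [← Scheme.Hom.comp_apply, pullbackSpecIso_hom_fst, hw1]
    exact congrArg PrimeSpectrum.asIdeal h1
  have hQ2 : Q.asIdeal.comap ((Algebra.TensorProduct.includeRight : B →ₐ[A0] R ⊗[A0] B) : B →+* R ⊗[A0] B) =
      (hW.primeIdealOf ⟨y, hxV⟩).asIdeal := by
    have h1 : (Spec.map (CommRingCat.ofHom ((Algebra.TensorProduct.includeRight : B →ₐ[A0] R ⊗[A0] B) : B →+* R ⊗[A0] B))) Q =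
        hW.primeIdealOf ⟨y, hxV⟩ := by
      rw [← Scheme.Hom.comp_apply, pullbackSpecIso_hom_snd, hw2]
    exact congrArg PrimeSpectrum.asIdeal h1
  haveI := Q.isPrime
  haveI hsep : IsSepClosure (ResidueField A) (ResidueField R) := HenselLib.isSepClosure_residueField_localSH (R := A)
  haveI : IsSepClosed (ResidueField R) := hsep.sep_closed
  obtain ⟨τ, hτ⟩ := HenselLib.StrictSections.exists_algHom_of_prime R (R ⊗[A0] B) Q.asIdeal hQ1
  let ψ : B →+* R := τ.toRingHom.comp ((Algebra.TensorProduct.includeRight : B →ₐ[A0] R ⊗[A0] B) : B →+* R ⊗[A0] B)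
  have hψA : ψ.comp (algebraMap A0 B) = algebraMap A0 R := RingHom.ext fun a => by
    show τ ((Algebra.TensorProduct.includeRight : B →ₐ[A0] R ⊗[A0] B) (algebraMap A0 B a)) = _
    rw [AlgHom.commutes, IsScalarTower.algebraMap_apply A0 R (R ⊗[A0] B), AlgHom.commutes]
    rfl
  refine ⟨Spec.map (CommRingCat.ofHom ψ) ≫ hW.fromSpec, ?_, ?_, fun z hz => ?_⟩
  · haveI : Flat (Spec.map (CommRingCat.ofHom ψ)) := by
      refine (HasRingHomProperty.Spec_iff (P := @Flat)).2 ?_
      letI := ψ.toAlgebra
      haveI : IsScalarTower A0 B R := IsScalarTower.of_algebraMap_eq fun a => (RingHom.congr_fun hψA a).symm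
      show Module.Flat B R
      exact Algebra.FormallyUnramified.flat_of_restrictScalars (R := A0) (S := B) R
    infer_instance
  · rw [Scheme.Hom.comp_apply]
    refine (congrArg hW.fromSpec ?_).trans (hW.fromSpec_primeIdealOf ⟨y, hxV⟩)
    refine PrimeSpectrum.ext ?_
    rw [← hQ2, ← hτ, Ideal.comap_comap]
    rfl
  · have hcz : c z = g y := by
      refine Eq.trans ?_ (congrArg g hz)
      rw [← Scheme.Hom.comp_apply, Category.assoc, ← hV.SpecMap_appLE_fromSpec g hW le_rfl,
        ← Spec.map_comp_assoc, ← Scheme.Hom.app_eq_appLE]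
      exact congrArg (fun q : Spec (CommRingCat.of R) ⟶ X => q z)
        (congrArg (fun q => Spec.map (CommRingCat.ofHom q) ≫ hV.fromSpec) hψA.symm)
    rw [hc, Scheme.Hom.comp_apply] at hcz
    have h1 : (Spec.map (CommRingCat.ofHom (algebraMap A R))) z = closedPoint A :=
      (X.fromSpecStalk (g y)).isEmbedding.injective (hcz.trans X.fromSpecStalk_closedPoint.symm)
    refine PrimeSpectrum.ext (le_antisymm (IsLocalRing.le_maximalIdeal z.isPrime.ne_top) ?_)
    show maximalIdeal R ≤ z.asIdeal
    rw [← HenselLib.map_maximalIdeal_localSH (R := A)]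
    exact Ideal.map_le_iff_le_comap.2 (congrArg PrimeSpectrum.asIdeal h1).ge

/-- Every point has a maximal generization. -/
theorem exists_maximal_generization {Y : Scheme.{u}} (w : Y) :
    ∃ η : Y, η ⤳ w ∧ ∀ z : Y, z ⤳ η → z = η := by
  have hη := (isIrreducible_irreducibleComponent (x := w)).isGenericPoint_genericPoint isClosed_irreducibleComponent
  refine ⟨_, hη.specializes mem_irreducibleComponent, fun z hz => ?_⟩
  have hsub : irreducibleComponent w ⊆ closure {z} :=
    hη.def ▸ closure_minimal (Set.singleton_subset_iff.2 hz.mem_closure) isClosed_closure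
  have heq : irreducibleComponent w = closure {z} :=
    (irreducibleComponent_mem_irreducibleComponents w).eq_of_subset (isIrreducible_singleton.closure) hsub
  exact (IsGenericPoint.eq (show IsGenericPoint z (irreducibleComponent w) from heq.symm) hη)

theorem existsUnique_clopen {X : Scheme.{u}} (U : X.Opens) (hU : Dense (U : Set X))
    (hirr : ∀ V : X.Opens, IsCompact (V : Set X) → (irreducibleComponents ↥V).Finite)
    (hsh : ∀ x : X, x ∉ U → ∀ (R : Type u) [CommRing R] [IsLocalRing R] [Algebra (X.presheaf.stalk x) R]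
      [IsLocalHom (algebraMap (X.presheaf.stalk x) R)] [Hensel.IsStrictHenselization (X.presheaf.stalk x) R],
      ConnectedSpace (FEt.puncturedSpec R : Scheme.{u}))
    (Y : Scheme.{u}) (g : Y ⟶ X) [IsFinite g] [Etale g] (V : Set ↥(pullback g U.ι)) (hV : IsClopen V) :
    ∃! D : Set ↥Y, IsClopen D ∧ (pullback.fst g U.ι).base ⁻¹' D = V := by
  let p := pullback.fst g U.ι
  have hp : Topology.IsOpenEmbedding p := p.isOpenEmbedding
  have hdense : Dense (Set.range p) := by
    rw [IsOpenImmersion.range_pullbackFst]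
    rw [Scheme.Opens.opensRange_ι]
    exact hU.preimage g.isOpenMap
  have hO : IsOpen (p '' V) := hp.isOpenMap _ hV.2
  have hO' : IsOpen (p '' Vᶜ) := hp.isOpenMap _ hV.compl.2
  have hdisj : Disjoint (p '' V) (p '' Vᶜ) :=
    Set.disjoint_image_of_injective hp.injective disjoint_compl_right
  have hunion : closure (p '' V) ∪ closure (p '' Vᶜ) = Set.univ := by
    rw [← closure_union, ← Set.image_union, Set.union_compl_self, Set.image_univ]
    exact hdense.closure_eq
  have hgen : ∀ (O : Set Y), IsOpen O → ∀ y ∈ closure O, ∃ η ∈ O, η ⤳ y := by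
    intro O hOo y hy
    obtain ⟨V0, hV0, hxV0, -⟩ := exists_isAffineOpen_mem_and_subset (X := X) (x := g y) (U := ⊤) trivial
    let M : Set Y := {η | η ∈ g ⁻¹ᵁ V0 ∧ ∀ z, z ⤳ η → z = η}
    let M0 : Set ↥V0 := {v | ∀ z : ↥V0, z ⤳ v → z = v}
    have hM0 : M0.Finite := by
      haveI : QuasiSober ↥V0 := V0.isOpen.isOpenEmbedding_subtypeVal.quasiSober
      refine Set.Finite.of_finite_image ((hirr V0 hV0.isCompact).subset
        (t := (fun v : ↥V0 => irreducibleComponent v) '' M0) ?_) ?_
      · rintro _ ⟨v, -, rfl⟩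
        exact irreducibleComponent_mem_irreducibleComponents v
      · intro v hv v' hv' he
        have hη := (isIrreducible_irreducibleComponent (x := v)).isGenericPoint_genericPoint isClosed_irreducibleComponent
        have e1 := hv _ (hη.specializes mem_irreducibleComponent)
        have e2 := hv' _ (hη.specializes (show v' ∈ irreducibleComponent v by
          rw [show irreducibleComponent v = irreducibleComponent v' from he]; exact mem_irreducibleComponent))
        exact e1.symm.trans e2
    have hM : M.Finite := by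
      refine ((hM0.image Subtype.val).biUnion (t := fun x => g ⁻¹' {x}) fun x _ => g.finite_preimage_singleton x).subset ?_
      rintro η ⟨hηV, hmax⟩
      refine Set.mem_biUnion ⟨⟨g η, hηV⟩, fun z hz => ?_, rfl⟩ rfl
      obtain ⟨η', hη', hη'z⟩ := Flat.generalizingMap g (hz.map continuous_subtype_val : (z : X) ⤳ g η)
      exact Subtype.ext (hη'z.symm.trans (congrArg g (hmax η' hη')))
    have hyW : y ∈ g ⁻¹ᵁ V0 := hxV0
    have h1 : y ∈ closure (O ∩ (g ⁻¹ᵁ V0 : Set Y)) := by
      rw [mem_closure_iff] at hy ⊢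
      intro o ho hyo
      obtain ⟨w, hw1, hw2⟩ := hy (o ∩ (g ⁻¹ᵁ V0 : Set Y)) (ho.inter (g ⁻¹ᵁ V0).isOpen) ⟨hyo, hyW⟩
      exact ⟨w, hw1.1, hw2, hw1.2⟩
    have h2 : O ∩ (g ⁻¹ᵁ V0 : Set Y) ⊆ ⋃ η ∈ M ∩ O, closure {η} := by
      rintro w ⟨hwO, hwW⟩
      obtain ⟨η, hη, hmax⟩ := exists_maximal_generization w
      exact Set.mem_biUnion ⟨⟨hη.mem_open (g ⁻¹ᵁ V0).isOpen hwW, hmax⟩, hη.mem_open hOo hwO⟩ hη.mem_closure
    have h3 := closure_minimal h2 ((hM.inter_of_left O).isClosed_biUnion fun _ _ => isClosed_closure) h1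
    obtain ⟨η, ⟨-, hηO⟩, hηy⟩ := Set.mem_iUnion₂.1 h3
    exact ⟨η, hηO, specializes_iff_mem_closure.2 hηy⟩
  let Bad := closure (p '' V) ∩ closure (p '' Vᶜ)
  have hBad : Bad = ∅ := by
    by_contra hne
    obtain ⟨y0, hy0⟩ := Set.nonempty_iff_ne_empty.2 hne
    have hBc : IsClosed Bad := isClosed_closure.inter isClosed_closure
    haveI : QuasiSober ↥Bad := hBc.isClosedEmbedding_subtypeVal.quasiSober
    let Z := irreducibleComponent (⟨y0, hy0⟩ : ↥Bad)
    obtain ⟨y, hy⟩ := QuasiSober.sober (isIrreducible_irreducibleComponent (x := (⟨y0, hy0⟩ : ↥Bad))) isClosed_irreducibleComponent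
    have hmax : ∀ z : ↥Bad, (z : Y) ⤳ y.1 → z = y := by
      intro z hz
      have hz' : z ⤳ y := (Topology.IsInducing.subtypeVal.specializes_iff).1 hz
      have hsub : irreducibleComponent (⟨y0, hy0⟩ : ↥Bad) ⊆ closure {z} :=
        hy.def ▸ closure_minimal (Set.singleton_subset_iff.2 hz'.mem_closure) isClosed_closure
      have heq : irreducibleComponent (⟨y0, hy0⟩ : ↥Bad) = closure {z} :=
        (irreducibleComponent_mem_irreducibleComponents _).eq_of_subset (isIrreducible_singleton.closure) hsub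
      exact IsGenericPoint.eq (show IsGenericPoint z (irreducibleComponent (⟨y0, hy0⟩ : ↥Bad)) from heq.symm) hy
    have hnr : ∀ w, w ∈ closure (p '' V) → w ∈ closure (p '' Vᶜ) → w ∉ Set.range p := by
      rintro _ h h' ⟨v, rfl⟩
      by_cases hv : v ∈ V
      · exact (hdisj.closure_right hO).le_bot ⟨⟨v, hv, rfl⟩, h'⟩
      · exact (hdisj.symm.closure_right hO').le_bot ⟨⟨v, hv, rfl⟩, h⟩
    have hgy : g y.1 ∉ U := by
      intro h
      refine hnr _ y.2.1 y.2.2 ?_
      rw [IsOpenImmersion.range_pullbackFst, Scheme.Opens.opensRange_ι]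
      exact h
    obtain ⟨s, hs, hsy, hsz⟩ := exists_strict_germ g y.1
    let R := HenselLib.LocalSH (X.presheaf.stalk (g y.1))
    haveI := HenselLib.isStrictHenselization_localSH (R := X.presheaf.stalk (g y.1))
    haveI hconn := hsh (g y.1) hgy R
    let P := FEt.puncturedSpec R
    let t : P.toScheme → Y := fun z => s (P.ι z)
    have ht : Continuous t := s.continuous.comp P.ι.continuous
    have hnb : ∀ z, t z ∉ Bad := fun z hz => by
      have hsp : t z ⤳ y.1 := hsy ▸ (IsLocalRing.specializes_closedPoint (P.ι z)).map s.continuous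
      have := congrArg Subtype.val (hmax ⟨t z, hz⟩ hsp)
      exact z.2 (hsz _ this)
    have hclo : IsClopen (t ⁻¹' closure (p '' V)) := by
      refine ⟨isClosed_closure.preimage ht, ?_⟩
      have : t ⁻¹' closure (p '' V) = (t ⁻¹' closure (p '' Vᶜ))ᶜ := by
        ext z
        refine ⟨fun h h' => hnb z ⟨h, h'⟩, fun h => ?_⟩
        exact (hunion.ge (Set.mem_univ (t z))).resolve_right h
      rw [this]
      exact (isClosed_closure.preimage ht).isOpen_compl
    have hlift : ∀ O : Set Y, IsOpen O → O ⊆ Set.range p → y.1 ∈ closure O → ∃ z, t z ∈ O := by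
      intro O hOo hOr hyO
      obtain ⟨η, hηO, hηy⟩ := hgen O hOo y.1 hyO
      haveI := hs
      obtain ⟨z, hz, hzη⟩ := Flat.generalizingMap s (show η ⤳ s (closedPoint R) by rw [hsy]; exact hηy)
      have hne : z ≠ closedPoint R := fun h => by
        refine hnr _ y.2.1 y.2.2 ?_
        rw [← hsy, ← h, hzη]
        exact hOr hηO
      exact ⟨⟨z, hne⟩, show s z ∈ O by rw [hzη]; exact hηO⟩
    obtain ⟨z₁, hz₁⟩ := hlift _ hO (Set.image_subset_range _ _) y.2.1
    obtain ⟨z₂, hz₂⟩ := hlift _ hO' (Set.image_subset_range _ _) y.2.2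
    rcases isClopen_iff.1 hclo with h | h
    · exact (Set.eq_empty_iff_forall_notMem.1 h z₁) (subset_closure hz₁)
    · exact hnb z₂ ⟨h.ge (Set.mem_univ z₂), subset_closure hz₂⟩
  refine ⟨closure (p '' V), ⟨⟨isClosed_closure, ?_⟩, ?_⟩, fun D ⟨hD, hDV⟩ => ?_⟩
  · have : closure (p '' V) = (closure (p '' Vᶜ))ᶜ := by
      ext z
      exact ⟨fun h h' => (Set.eq_empty_iff_forall_notMem.1 hBad z) ⟨h, h'⟩,
        fun h => (hunion.ge (Set.mem_univ z)).resolve_right h⟩
    rw [this]
    exact isClosed_closure.isOpen_compl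
  · ext v
    refine ⟨fun h => ?_, fun h => subset_closure ⟨v, h, rfl⟩⟩
    by_contra hv
    exact (Set.eq_empty_iff_forall_notMem.1 hBad (p v)) ⟨h, subset_closure ⟨v, hv, rfl⟩⟩
  · have himg : p '' V = Set.range p ∩ D := by
      rw [← hDV, Set.image_preimage_eq_range_inter]
    rw [himg]
    refine subset_antisymm ?_ (closure_minimal Set.inter_subset_right hD.1)
    calc D ⊆ closure (D ∩ Set.range p) := hdense.open_subset_closure_inter hD.2
      _ = _ := by rw [Set.inter_comm]

theorem restrict_full_faithful {X : Scheme.{u}} (U : X.Opens) (hU : Dense (U : Set X))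
    (hirr : ∀ V : X.Opens, IsCompact (V : Set X) → (irreducibleComponents ↥V).Finite)
    (hsh : ∀ x : X, x ∉ U → ∀ (R : Type u) [CommRing R] [IsLocalRing R] [Algebra (X.presheaf.stalk x) R]
      [IsLocalHom (algebraMap (X.presheaf.stalk x) R)] [Hensel.IsStrictHenselization (X.presheaf.stalk x) R],
      ConnectedSpace (FEt.puncturedSpec R : Scheme.{u})) :
    (FEt.restrict U.ι).Full ∧ (FEt.restrict U.ι).Faithful :=
  CAlgH3.FEtClopenFF.restrict_full_faithful_of_couple U.ι fun Y g hg hg' V hV => by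
    haveI := hg
    haveI := hg'
    exact existsUnique_clopen U hU hirr hsh Y g V hV

end Groth.Agent.PunctConnH2
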